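import Cfsg.Prelude.Def_Blocks
import Cfsg.Agent.Lib.Characters.Complete
import Cfsg.Agent.Lib.Induced.Character
import Cfsg.Agent.Lib.Characters.Degree
import Mathlib.RingTheory.IntegralClosure.IntegrallyClosed
import Mathlib.RingTheory.Polynomial.RationalRoot

/-!
# The class multiplication formula

`∑ a, χ (x * (a y a⁻¹)) = |G| χ x χ y / χ 1`, and its consequences for products of two conjugates
lying in a subgroup.
-/

namespace Cfsg.Agent.Lib.H80.ClassMult

open Cfsg.Agent.Lib.Characters.Basic Cfsg.Agent.Lib.Characters.Complete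
open scoped ComplexConjugate

universe u

variable {G : Type u} [Group G]

/-- The degree of an irreducible character as a natural number. -/
theorem deg_spec (χ : Cfsg.IrrCharacter G) :
    0 < Cfsg.charDegree (χ : G → ℂ) ∧
      (χ : G → ℂ) 1 = (Cfsg.charDegree (χ : G → ℂ) : ℂ) := by
  obtain ⟨n, hn, h⟩ := exists_degree_pos χ
  have : Cfsg.charDegree (χ : G → ℂ) = n := by simp [Cfsg.charDegree, h]
  exact ⟨this ▸ hn, this ▸ h⟩

/-- The degree divides the group order. -/
theorem charDegree_dvd_card [Finite G] (χ : Cfsg.IrrCharacter G) :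
    Cfsg.charDegree (χ : G → ℂ) ∣ Nat.card G := by
  obtain ⟨n, hn⟩ := Cfsg.Agent.Lib.Characters.Degree.exists_degree_dvd χ
  have h : Cfsg.charDegree (χ : G → ℂ) = n := by simp [Cfsg.charDegree, hn.2.2]
  exact h ▸ hn.2.1

/-- The class multiplication formula. -/
theorem sum_apply_mul_conj [Fintype G] (χ : Cfsg.IrrCharacter G) (x y : G) :
    ∑ a : G, (χ : G → ℂ) (x * (a * y * a⁻¹)) =
      (Nat.card G : ℂ) * (χ : G → ℂ) x * (χ : G → ℂ) y / (χ : G → ℂ) 1 := by
  have h1 := apply_one_ne_zero χ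
  obtain ⟨n, ρ, hρ, hχ⟩ := exists_rep χ
  rw [← hχ] at h1 ⊢
  haveI := hρ
  let T : Module.End ℂ (Fin n → ℂ) := ∑ a : G, ρ (a * y * a⁻¹)
  have hT : ∀ g : G, T * ρ g = ρ g * T := by
    intro g
    simp only [T, Finset.sum_mul, Finset.mul_sum, ← map_mul]
    exact Fintype.sum_equiv (Equiv.mulLeft g⁻¹) _ _ fun a => by
      simp only [Equiv.coe_mulLeft]; congr 1; group
  let f : Representation.IntertwiningMap ρ ρ := ⟨T, fun g => hT g⟩
  obtain ⟨c, hc⟩ :=
    (Representation.IsIrreducible.algebraMap_intertwiningMap_bijective_of_isAlgClosed (ρ := ρ)).2 f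
  have hTc : T = c • (1 : Module.End ℂ (Fin n → ℂ)) := by
    have := congrArg Representation.IntertwiningMap.toLinearMap hc
    rw [Algebra.algebraMap_eq_smul_one] at this
    exact this.symm
  have hcl := isClassFunction_character ρ
  have htr : c * ρ.character 1 = (Nat.card G : ℂ) * ρ.character y := by
    have := congrArg (LinearMap.trace ℂ _) hTc
    rw [map_smul, LinearMap.trace_one, smul_eq_mul, map_sum] at this
    rw [Representation.char_one, ← this, Nat.card_eq_fintype_card, ← Finset.card_univ,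
      ← nsmul_eq_mul, ← Finset.sum_const]
    exact Finset.sum_congr rfl fun a _ => hcl y a
  have hsum : ∑ a : G, ρ.character (x * (a * y * a⁻¹)) = c * ρ.character x := by
    have := congrArg (fun F => LinearMap.trace ℂ _ (ρ x * F)) hTc
    simp only [mul_smul_comm, mul_one, map_smul, smul_eq_mul, T, Finset.mul_sum, map_sum] at this
    simp only [← map_mul] at this
    exact this
  rw [hsum, eq_div_iff h1]
  calc c * ρ.character x * ρ.character 1 = ρ.character x * (c * ρ.character 1) := by ring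
    _ = _ := by rw [htr]; ring

/-- Restriction to a subgroup: the sum over the subgroup is the multiplicity of the trivial
character times the order. -/
theorem exists_sum_subgroup [Fintype G] (χ : Cfsg.IrrCharacter G) (P : Subgroup G) [Fintype P] :
    ∃ n : ℕ, ∑ u : P, (χ : G → ℂ) u = (Nat.card P : ℂ) * n := by
  obtain ⟨n, hn⟩ := exists_classInner_nat
    (isCharacter_comp P.subtype (isCharacter_irr χ)) (isCharacter_one (G := P))
  refine ⟨n, ?_⟩
  rw [← hn, Cfsg.classInner, ← mul_assoc, mul_inv_cancel₀ (Nat.cast_ne_zero.mpr Nat.card_pos.ne'),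
    one_mul]
  simp

theorem card_conjEq [Fintype G] [DecidableEq G] (x : G) :
    (Finset.univ.filter fun ab : G × G => ab.1 * x * ab.1⁻¹ = ab.2 * x * ab.2⁻¹).card =
      Nat.card G * Nat.card (Subgroup.centralizer ({x} : Set G)) := by
  rw [← Fintype.card_subtype, ← Nat.card_eq_fintype_card, ← Nat.card_prod]
  refine Nat.card_congr
    { toFun := fun ab => (ab.1.1, ⟨ab.1.1⁻¹ * ab.1.2, ?_⟩)
      invFun := fun ac => ⟨(ac.1, ac.1 * (ac.2 : G)), ?_⟩
      left_inv := fun ab => Subtype.ext (by simp)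
      right_inv := fun ac => Prod.ext rfl (Subtype.ext (by simp)) }
  · have h := ab.2
    rw [Subgroup.mem_centralizer_singleton_iff]
    have h2 : ab.1.2 = ab.1.1 * (ab.1.1⁻¹ * ab.1.2) := (mul_inv_cancel_left _ _).symm
    rw [h2] at h
    generalize ab.1.1⁻¹ * ab.1.2 = c at h ⊢
    generalize ab.1.1 = a at h
    have h3 : x = c * x * c⁻¹ := by
      have := congrArg (fun z => a⁻¹ * z * a) h
      simpa [mul_assoc] using this
    exact (eq_mul_inv_iff_mul_eq.mp h3).symm
  · have hc := Subgroup.mem_centralizer_singleton_iff.mp ac.2.2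
    show ac.1 * x * ac.1⁻¹ = ac.1 * (ac.2 : G) * x * (ac.1 * (ac.2 : G))⁻¹
    have : (ac.2 : G) * x * (ac.2 : G)⁻¹ = x := by rw [hc]; group
    calc ac.1 * x * ac.1⁻¹ = ac.1 * ((ac.2 : G) * x * (ac.2 : G)⁻¹) * ac.1⁻¹ := by rw [this]
      _ = _ := by group

/-- If the only product of a conjugate of `x` and a conjugate of `x⁻¹` lying in `P` is `1`, then
the weighted sum of the `|χ x|²` over the characters is `|C(x)|/|P|`. -/
theorem sum_sq_of_products [Fintype G] [Fintype (Cfsg.IrrCharacter G)] (x : G) (P : Subgroup G)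
    [Fintype P]
    (h : ∀ a b : G, a * x * a⁻¹ * (b * x⁻¹ * b⁻¹) ∈ P →
      a * x * a⁻¹ * (b * x⁻¹ * b⁻¹) = 1) :
    ∑ χ : Cfsg.IrrCharacter G,
        (χ : G → ℂ) x * (χ : G → ℂ) x⁻¹ * (∑ u : P, (χ : G → ℂ) u) / (χ : G → ℂ) 1 =
      (Nat.card (Subgroup.centralizer ({x} : Set G)) : ℂ) := by
  classical
  have hG : (Nat.card G : ℂ) ≠ 0 := Nat.cast_ne_zero.mpr Nat.card_pos.ne'
  have key : ∀ χ : Cfsg.IrrCharacter G,
      ∑ a : G, ∑ b : G, ∑ u : P, (χ : G → ℂ) (a * x * a⁻¹ * (b * x⁻¹ * b⁻¹) * u) =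
      (Nat.card G : ℂ) ^ 2 * ((χ : G → ℂ) x * (χ : G → ℂ) x⁻¹ * (∑ u : P, (χ : G → ℂ) u)) /
        (χ : G → ℂ) 1 ^ 2 := by
    intro χ
    have h1 := apply_one_ne_zero χ
    have hcl := isClassFunction_irr χ
    have swap : ∀ g k : G, (χ : G → ℂ) (g * k) = (χ : G → ℂ) (k * g) := fun g k => by
      rw [← hcl (g * k) k]
      congr 1
      group
    calc ∑ a : G, ∑ b : G, ∑ u : P, (χ : G → ℂ) (a * x * a⁻¹ * (b * x⁻¹ * b⁻¹) * u)
        = ∑ u : P, ∑ a : G, ∑ b : G, (χ : G → ℂ) ((u : G) * (a * x * a⁻¹) * (b * x⁻¹ * b⁻¹)) := by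
          rw [Finset.sum_comm (s := (Finset.univ : Finset P))]
          refine Finset.sum_congr rfl fun a _ => ?_
          rw [Finset.sum_comm]
          refine Finset.sum_congr rfl fun u _ => Finset.sum_congr rfl fun b _ => ?_
          rw [swap _ (u : G)]
          simp only [mul_assoc]
      _ = _ := by
          simp only [sum_apply_mul_conj, ← Finset.sum_div, ← Finset.sum_mul, ← Finset.mul_sum]
          field_simp
  have hcount : ∑ χ : Cfsg.IrrCharacter G, (χ : G → ℂ) 1 *
      ∑ a : G, ∑ b : G, ∑ u : P, (χ : G → ℂ) (a * x * a⁻¹ * (b * x⁻¹ * b⁻¹) * u) =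
      (Nat.card G : ℂ) * ((Nat.card G : ℂ) * Nat.card (Subgroup.centralizer ({x} : Set G))) := by
    simp only [Finset.mul_sum]
    rw [Finset.sum_comm]
    conv_lhs => enter [2, a]; rw [Finset.sum_comm]
    conv_lhs => enter [2, a, 2, b]; rw [Finset.sum_comm]
    simp only [sum_degree_mul_apply]
    have hu : ∀ a b : G,
        (∑ u : P, if a * x * a⁻¹ * (b * x⁻¹ * b⁻¹) * u = 1 then (Nat.card G : ℂ) else 0) =
          if a * x * a⁻¹ = b * x * b⁻¹ then (Nat.card G : ℂ) else 0 := by
      intro a b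
      have hinv : (b * x⁻¹ * b⁻¹ : G) = (b * x * b⁻¹)⁻¹ := by group
      by_cases hmem : a * x * a⁻¹ * (b * x⁻¹ * b⁻¹) ∈ P
      · have h0 := h a b hmem
        rw [h0]
        have heq : a * x * a⁻¹ = b * x * b⁻¹ := by rwa [hinv, mul_inv_eq_one] at h0
        rw [if_pos heq, Finset.sum_eq_single (1 : P)]
        · simp
        · intro u _ hu
          rw [one_mul, if_neg]
          exact fun e => hu (Subtype.ext e)
        · simp
      · rw [if_neg, Finset.sum_eq_zero]
        · intro u _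
          rw [if_neg]
          intro e
          exact hmem (by rw [eq_inv_of_mul_eq_one_left e]; exact inv_mem u.2)
        · intro e
          exact hmem (by rw [hinv, e, mul_inv_cancel]; exact one_mem P)
    simp only [hu]
    rw [← Fintype.sum_prod_type' (f := fun a b : G =>
      if a * x * a⁻¹ = b * x * b⁻¹ then (Nat.card G : ℂ) else 0),
      ← Finset.sum_filter, Finset.sum_const, nsmul_eq_mul]
    rw [show (Finset.univ.filter fun ab : G × G => ab.1 * x * ab.1⁻¹ = ab.2 * x * ab.2⁻¹).card =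
      Nat.card G * Nat.card (Subgroup.centralizer ({x} : Set G)) from card_conjEq x]
    push_cast
    ring
  simp only [key] at hcount
  apply mul_left_cancel₀ (pow_ne_zero 2 hG)
  rw [Finset.mul_sum]
  rw [← mul_assoc, ← pow_two] at hcount
  rw [← hcount]
  refine Finset.sum_congr rfl fun χ _ => ?_
  have h1 := apply_one_ne_zero χ
  field_simp

/-- The degree divisibility forced by `sum_sq_of_products`. -/
theorem exists_degree_dvd [Fintype G] {p : ℕ} (hp : p.Prime) (x : G) (P : Subgroup G)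
    (h : ∀ a b : G, a * x * a⁻¹ * (b * x⁻¹ * b⁻¹) ∈ P →
      a * x * a⁻¹ * (b * x⁻¹ * b⁻¹) = 1) :
    ∃ χ : Cfsg.IrrCharacter G,
      (Nat.card P).factorization p ≤ (Nat.card (Subgroup.centralizer ({x} : Set G))).factorization p +
        (Cfsg.charDegree (χ : G → ℂ)).factorization p := by
  classical
  letI := Fintype.ofFinite (Cfsg.IrrCharacter G)
  letI := Fintype.ofFinite P
  set C := Nat.card (Subgroup.centralizer ({x} : Set G)) with hC
  set k := (Nat.card P).factorization p
  set j := C.factorization p with hj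
  by_contra hall
  push Not at hall
  have hjk : j < k := by have := hall (oneChar G); omega
  set e := k - j - 1
  let L : ℕ := p ^ e * ∏ χ : Cfsg.IrrCharacter G,
    Cfsg.charDegree (χ : G → ℂ) / p ^ (Cfsg.charDegree (χ : G → ℂ)).factorization p
  have hne : ∀ χ : Cfsg.IrrCharacter G, Cfsg.charDegree (χ : G → ℂ) ≠ 0 := fun χ =>
    (deg_spec χ).1.ne'
  have hdvd : ∀ χ : Cfsg.IrrCharacter G, Cfsg.charDegree (χ : G → ℂ) ∣ L := by
    intro χ
    calc Cfsg.charDegree (χ : G → ℂ) = p ^ (Cfsg.charDegree (χ : G → ℂ)).factorization p *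
          (Cfsg.charDegree (χ : G → ℂ) / p ^ (Cfsg.charDegree (χ : G → ℂ)).factorization p) :=
          (Nat.ordProj_mul_ordCompl_eq_self _ _).symm
      _ ∣ L := mul_dvd_mul (pow_dvd_pow p (by have := hall χ; omega))
          (Finset.dvd_prod_of_mem (f := fun χ : Cfsg.IrrCharacter G =>
            Cfsg.charDegree (χ : G → ℂ) / p ^ (Cfsg.charDegree (χ : G → ℂ)).factorization p)
            (Finset.mem_univ χ))
  have hsum := sum_sq_of_products x P h
  choose m hm using fun χ : Cfsg.IrrCharacter G => exists_sum_subgroup χ P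
  choose d hd using hdvd
  have hint : IsIntegral ℤ (((L * C : ℕ) : ℂ) / (Nat.card P : ℂ)) := by
    have heq : ((L * C : ℕ) : ℂ) / (Nat.card P : ℂ) =
        ∑ χ : Cfsg.IrrCharacter G, (χ : G → ℂ) x * (χ : G → ℂ) x⁻¹ * (m χ : ℂ) * (d χ : ℂ) := by
      rw [Nat.cast_mul, ← hsum, Finset.mul_sum, Finset.sum_div]
      refine Finset.sum_congr rfl fun χ _ => ?_
      have hP : (Nat.card P : ℂ) ≠ 0 := Nat.cast_ne_zero.mpr Nat.card_pos.ne'
      have h1 : ((Cfsg.charDegree (χ : G → ℂ)) : ℂ) ≠ 0 := Nat.cast_ne_zero.mpr (hne χ)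
      rw [hm χ, (deg_spec χ).2]
      nth_rewrite 1 [hd χ]
      push_cast
      field_simp
    rw [heq]
    exact IsIntegral.sum _ fun χ _ =>
      (((isIntegral_apply (isCharacter_irr χ) x).mul (isIntegral_apply (isCharacter_irr χ) x⁻¹)).mul
        (isIntegral_algebraMap (x := (m χ : ℤ)))).mul (isIntegral_algebraMap (x := (d χ : ℤ)))
  have hdiv : Nat.card P ∣ L * C := by
    have hq : IsIntegral ℤ (((L * C : ℕ) : ℚ) / (Nat.card P : ℚ)) := by
      refine (isIntegral_algebraMap_iff (FaithfulSMul.algebraMap_injective ℚ ℂ)).mp ?_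
      simpa using hint
    obtain ⟨z, hz⟩ := (IsIntegrallyClosed.isIntegral_iff (R := ℤ) (K := ℚ)).mp hq
    rw [eq_div_iff (Nat.cast_ne_zero.mpr Nat.card_pos.ne')] at hz
    have hz' : z * (Nat.card P : ℤ) = ((L * C : ℕ) : ℤ) := by
      simp only [algebraMap_int_eq, eq_intCast] at hz
      exact_mod_cast hz
    exact Int.natCast_dvd_natCast.mp ⟨z, by rw [← hz', mul_comm]⟩
  have hL0 : L ≠ 0 := mul_ne_zero (pow_ne_zero _ hp.ne_zero) (Finset.prod_ne_zero_iff.mpr
    fun χ _ => (Nat.ordCompl_pos p (hne χ)).ne')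
  have h1 := (Nat.factorization_le_iff_dvd Nat.card_pos.ne' (mul_ne_zero hL0 Nat.card_pos.ne')).mpr
    hdiv p
  have hLp : L.factorization p = e := by
    show (p ^ e * _).factorization p = e
    rw [Nat.factorization_mul (pow_ne_zero _ hp.ne_zero)
      (Finset.prod_ne_zero_iff.mpr fun χ _ => (Nat.ordCompl_pos p (hne χ)).ne'), Finsupp.add_apply,
      hp.factorization_pow, Finsupp.single_eq_same, Nat.factorization_prod
        (fun χ _ => (Nat.ordCompl_pos p (hne χ)).ne'), Finsupp.finset_sum_apply,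
      Finset.sum_eq_zero fun χ _ => ?_, add_zero]
    rw [Nat.factorization_eq_zero_iff]
    exact Or.inr (Or.inl (Nat.not_dvd_ordCompl hp (hne χ)))
  rw [Nat.factorization_mul hL0 Nat.card_pos.ne', Finsupp.add_apply, hLp] at h1
  have : k ≤ e + j := h1
  omega

end Cfsg.Agent.Lib.H80.ClassMult
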