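import Cfsg.Agent.Lib.Characters.Complete
import Cfsg.Agent.Lib.Induced.Character
import Mathlib.GroupTheory.FiniteAbelian.Duality
import Mathlib.RingTheory.RootsOfUnity.AlgebraicallyClosed

/-!
# Characters of degree one
-/

namespace Cfsg.Agent.Lib.H80.LinearChar

open Cfsg.Agent.Lib.Characters.Basic Cfsg.Agent.Lib.Characters.Complete

universe u

variable {G : Type u} [Group G]

/-- An irreducible character of degree one is multiplicative. -/
theorem map_mul_of_deg_one (χ : Cfsg.IrrCharacter G) (h : (χ : G → ℂ) 1 = 1) (g k : G) :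
    (χ : G → ℂ) (g * k) = (χ : G → ℂ) g * (χ : G → ℂ) k := by
  obtain ⟨n, ρ, hρ, hχ⟩ := exists_rep χ
  rw [← hχ, Representation.char_one, Module.finrank_fin_fun] at h
  have hn : n = 1 := by exact_mod_cast h
  subst hn
  have hscal : ∀ f : Module.End ℂ (Fin 1 → ℂ), f = LinearMap.trace ℂ _ f • 1 := by
    intro f
    rw [LinearMap.trace_eq_matrix_trace ℂ (Pi.basisFun ℂ (Fin 1))]
    refine LinearMap.ext fun v => funext fun i => ?_
    have hi : i = 0 := Subsingleton.elim _ _
    subst hi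
    have hv : v = v 0 • (Pi.basisFun ℂ (Fin 1)) 0 := funext fun j => by
      have hj : j = 0 := Subsingleton.elim _ _
      subst hj
      simp
    rw [hv]
    simp [Matrix.trace, LinearMap.toMatrix_apply, map_smul, mul_comm]
  rw [← hχ]
  show LinearMap.trace ℂ _ (ρ (g * k)) = LinearMap.trace ℂ _ (ρ g) * LinearMap.trace ℂ _ (ρ k)
  rw [map_mul]
  conv_lhs => rw [hscal (ρ g), smul_mul_assoc, one_mul, map_smul, smul_eq_mul]

theorem ne_zero_of_deg_one (χ : Cfsg.IrrCharacter G) (h : (χ : G → ℂ) 1 = 1) (g : G) :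
    (χ : G → ℂ) g ≠ 0 := fun hg => by
  have := map_mul_of_deg_one χ h g g⁻¹
  rw [mul_inv_cancel, h, hg, zero_mul] at this
  exact one_ne_zero this

/-- Characters of degree one are trivial on the derived subgroup. -/
theorem eq_one_of_mem_commutator (χ : Cfsg.IrrCharacter G) (h : (χ : G → ℂ) 1 = 1) {g : G}
    (hg : g ∈ commutator G) : (χ : G → ℂ) g = 1 := by
  let f : G →* ℂ :=
    { toFun := (χ : G → ℂ), map_one' := h, map_mul' := map_mul_of_deg_one χ h }
  exact (Abelianization.commutator_subset_ker f.toHomUnits hg |> fun hk => by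
    simpa [f] using congrArg Units.val (MonoidHom.mem_ker.mp hk))

/-- A linear character separates an element outside the derived subgroup from `1`. -/
theorem exists_deg_one_apply_ne [Finite G] {g : G} (hg : g ∉ commutator G) :
    ∃ χ : Cfsg.IrrCharacter G, (χ : G → ℂ) 1 = 1 ∧ (χ : G → ℂ) g ≠ 1 := by
  have hne : Abelianization.of g ≠ 1 := fun h => hg (by
    rw [← Abelianization.ker_of G, MonoidHom.mem_ker]; exact h)
  haveI : Finite (Abelianization G) := Quotient.finite _
  obtain ⟨φ, hφ⟩ :=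
    CommGroup.exists_apply_ne_one_of_hasEnoughRootsOfUnity (Abelianization G) ℂ hne
  refine ⟨⟨_, Cfsg.Agent.Lib.Induced.Character.isIrrCharacter_hom (φ.comp Abelianization.of)⟩,
    by simp, ?_⟩
  exact fun h => hφ (Units.ext h)

/-- The product of two characters of degree one. -/
theorem exists_mul_deg_one (χ ψ : Cfsg.IrrCharacter G) (h : (χ : G → ℂ) 1 = 1)
    (h' : (ψ : G → ℂ) 1 = 1) :
    ∃ θ : Cfsg.IrrCharacter G, (θ : G → ℂ) 1 = 1 ∧
      ∀ g, (θ : G → ℂ) g = (χ : G → ℂ) g * (ψ : G → ℂ) g := by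
  have h1 : ((χ : G → ℂ) * (ψ : G → ℂ)) 1 = 1 := by simp [h, h']
  exact ⟨⟨_, isIrrCharacter_of_degree_one
    (isCharacter_mul (isCharacter_irr χ) (isCharacter_irr ψ)) h1⟩, h1, fun g => rfl⟩

end Cfsg.Agent.Lib.H80.LinearChar
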