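import Mathlib
import Cfsg.Prelude.Def_Solvable
import Cfsg.Agent.Lib.Cores.Basic
import Cfsg.Agent.Lib.Subnormality.UniqueMaximal
import Cfsg.Agent.Lib.Subnormality.InvolutoryAut

/-!
# A bound from one small involution centralizer

A finite group with trivial odd core, 2-part at most `2 ^ a` and an involution with centralizer of
order at most `C` has order bounded in terms of `a` and `C`.
-/

set_option autoImplicit false

namespace Cfsg.Agent.Lib.H80.BrauerFowler

universe u

variable {G : Type u} [Group G] [Finite G]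

/-- A small class in a normal subgroup acted on by an involution with a small centralizer. -/
theorem exists_small_class {N : Subgroup G} [N.Normal] {t : G} (ht : t * t = 1) {c : ℕ}
    (hc : Nat.card ↥(Subgroup.centralizer ({t} : Set G)) ≤ c) (hN : c < Nat.card N) :
    ∃ x : N, x ≠ 1 ∧ (Subgroup.centralizer ({x} : Set N)).index ≤ 2 * c ^ 2 := by
  classical
  haveI := Fintype.ofFinite N
  have htt : t⁻¹ = t := inv_eq_of_mul_eq_one_left ht
  let f : N → N := fun n =>
    ⟨(n : G) * (t * (n : G) * t⁻¹)⁻¹,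
      N.mul_mem n.2 (N.inv_mem (Subgroup.Normal.conj_mem inferInstance _ n.2 t))⟩
  let K : Set N := Set.range f
  have hα : ∀ y ∈ K, t * (y : G) * t⁻¹ = (y : G)⁻¹ := by
    rintro _ ⟨n, rfl⟩
    show t * ((n : G) * (t * (n : G) * t⁻¹)⁻¹) * t⁻¹ = ((n : G) * (t * (n : G) * t⁻¹)⁻¹)⁻¹
    simp only [mul_inv_rev, inv_inv, htt, mul_assoc]
    simp only [← mul_assoc, ht, one_mul]
    exact mul_one _
  set i := Nat.card K with hi
  have hG : Nat.card N ≤ c * i := by
    let g : N → K := fun n => ⟨f n, n, rfl⟩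
    rw [← Nat.card_congr (Equiv.sigmaFiberEquiv g), Nat.card_sigma, hi, mul_comm]
    refine (Finset.sum_le_card_nsmul _ _ c fun y _ => ?_).trans
      (le_of_eq (by rw [Finset.card_univ, Nat.card_eq_fintype_card, smul_eq_mul]))
    rcases isEmpty_or_nonempty {n : N // g n = y} with he | ⟨⟨n₀, hn₀⟩⟩
    · simp
    refine le_trans (Nat.card_le_card_of_injective (fun n =>
      (⟨(n₀ : G)⁻¹ * ((n.1 : N) : G), ?_⟩ : Subgroup.centralizer ({t} : Set G)))
      fun a b h => Subtype.ext (Subtype.ext (mul_left_cancel (congrArg Subtype.val h)))) hc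
    have h := congrArg (fun z : K => ((z : N) : G)) (n.2.trans hn₀.symm)
    change (n.1 : G) * (t * (n.1 : G) * t⁻¹)⁻¹ = (n₀ : G) * (t * (n₀ : G) * t⁻¹)⁻¹ at h
    rw [Subgroup.mem_centralizer_singleton_iff]
    set A := (n.1 : G)
    set B := (n₀ : G)
    have h1 : A * t * A⁻¹ = B * t * B⁻¹ := by
      apply mul_right_cancel (b := t⁻¹)
      simpa [mul_assoc] using h
    calc B⁻¹ * A * t = B⁻¹ * (A * t * A⁻¹) * A := by group
      _ = t * (B⁻¹ * A) := by rw [h1]; group
  have hi2 : 2 ≤ i := by
    by_contra hlt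
    have hle : c * i ≤ c * 1 := Nat.mul_le_mul_left c (by omega)
    omega
  haveI : Nontrivial N := Finite.one_lt_card_iff_nontrivial.mp (by
    have : 0 < Nat.card ↥(Subgroup.centralizer ({t} : Set G)) := Nat.card_pos
    omega)
  obtain ⟨x₀, hx₀1, hmax⟩ := Set.exists_max_image {x : N | x ≠ 1}
    (fun x => Nat.card (Subgroup.centralizer ({x} : Set N))) (Set.toFinite _) (exists_ne 1)
  refine ⟨x₀, hx₀1, ?_⟩
  set M := Nat.card (Subgroup.centralizer ({x₀} : Set N))
  let φ : K × K → N := fun p => (p.1 : N) * (p.2 : N)⁻¹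
  have hfib : ∀ x : N, x ≠ 1 → Nat.card {p : K × K // φ p = x} ≤ M := by
    intro x hx
    refine le_trans ?_ (hmax x hx)
    rcases isEmpty_or_nonempty {p : K × K // φ p = x} with he | ⟨⟨⟨y₀, z₀⟩, hp⟩⟩
    · simp
    refine Nat.card_le_card_of_injective (fun p =>
      (⟨(p.1.1 : N) * (y₀ : N)⁻¹, Subgroup.mem_centralizer_iff.mpr ?_⟩ :
        Subgroup.centralizer ({x} : Set N))) fun p q h => ?_
    · intro w hw
      obtain rfl : x = w := hw.symm
      refine Subtype.ext ?_
      have h1 : ∀ y z : K, (y : N) * (z : N)⁻¹ = x →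
          t * (x : G) * t⁻¹ = ((y : N) : G)⁻¹ * (x : G)⁻¹ * ((y : N) : G) := by
        intro y z e
        rw [← e]
        show t * (((y : N) : G) * ((z : N) : G)⁻¹) * t⁻¹ = _
        calc t * (((y : N) : G) * ((z : N) : G)⁻¹) * t⁻¹
            = (t * ((y : N) : G) * t⁻¹) * (t * ((z : N) : G) * t⁻¹)⁻¹ := by group
          _ = _ := by rw [hα y y.2, hα z z.2]; simp [mul_assoc]
      have h2 := (h1 p.1.1 p.1.2 p.2).symm.trans (h1 y₀ z₀ hp)
      have h3 : Commute (((p.1.1 : N) : G) * ((y₀ : N) : G)⁻¹) (x : G)⁻¹ :=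
        calc ((p.1.1 : N) : G) * ((y₀ : N) : G)⁻¹ * (x : G)⁻¹
            = ((p.1.1 : N) : G) * (((y₀ : N) : G)⁻¹ * (x : G)⁻¹ * ((y₀ : N) : G)) *
                ((y₀ : N) : G)⁻¹ := by group
          _ = _ := by rw [← h2]; group
      exact (Commute.inv_right_iff.mp h3).eq.symm
    · have h1 : p.1.1 = q.1.1 := Subtype.ext (mul_right_cancel (congrArg Subtype.val h))
      have h2 : (p.1.1 : N) * (p.1.2 : N)⁻¹ = (q.1.1 : N) * (q.1.2 : N)⁻¹ := p.2.trans q.2.symm
      rw [h1] at h2
      exact Subtype.ext (Prod.ext h1 (Subtype.ext (inv_injective (mul_left_cancel h2))))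
  have hone : Nat.card {p : K × K // φ p = 1} ≤ i := by
    refine Nat.card_le_card_of_injective (fun p => p.1.1) fun p q h => ?_
    have hp : (p.1.1 : N) = p.1.2 := mul_inv_eq_one.mp p.2
    have hq : (q.1.1 : N) = q.1.2 := mul_inv_eq_one.mp q.2
    exact Subtype.ext (Prod.ext h (Subtype.ext (by rw [← hp, ← hq, show p.1.1 = q.1.1 from h])))
  have hsum : i * i ≤ i + Nat.card N * M := by
    rw [← Nat.card_prod, ← Nat.card_congr (Equiv.sigmaFiberEquiv φ), Nat.card_sigma,
      ← Finset.add_sum_erase _ _ (Finset.mem_univ (1 : N)), Nat.card_eq_fintype_card (α := N)]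
    refine Nat.add_le_add hone ((Finset.sum_le_card_nsmul _ _ M fun x hx =>
      hfib x (Finset.ne_of_mem_erase hx)).trans ?_)
    rw [smul_eq_mul]
    exact Nat.mul_le_mul_right _ (Finset.card_le_univ _)
  have h1 : i * i ≤ 2 * (Nat.card N * M) := by nlinarith
  have h2 : Nat.card N * Nat.card N ≤ Nat.card N * (2 * c ^ 2 * M) := by
    calc Nat.card N * Nat.card N ≤ (c * i) * (c * i) := Nat.mul_le_mul hG hG
      _ = c ^ 2 * (i * i) := by ring
      _ ≤ c ^ 2 * (2 * (Nat.card N * M)) := Nat.mul_le_mul_left _ h1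
      _ = _ := by ring
  have h3 := Nat.le_of_mul_le_mul_left h2 Nat.card_pos
  rw [← (Subgroup.centralizer ({x₀} : Set N)).index_mul_card] at h3
  exact Nat.le_of_mul_le_mul_right h3 Nat.card_pos

theorem factorization_two_le_of_dvd {m n a : ℕ} (hn : n ≠ 0) (h : m ∣ n)
    (ha : n.factorization 2 ≤ a) : m.factorization 2 ≤ a :=
  le_trans ((Nat.factorization_le_iff_dvd (fun e => hn (zero_dvd_iff.mp (e ▸ h))) hn).mpr h 2) ha

theorem two_dvd_of_ne_bot (hcore : Cfsg.pPrimeCore 2 G = ⊥) {N : Subgroup G} [N.Normal]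
    (hN : N ≠ ⊥) : 2 ∣ Nat.card N := by
  haveI : Fact (Nat.Prime 2) := ⟨Nat.prime_two⟩
  by_contra h
  exact hN (le_bot_iff.mp (hcore ▸ Lib.Cores.le_pPrimeCore_of_not_dvd h))

/-- A minimal normal abelian subgroup is a 2-group. -/
theorem isTwoGroup_of_comm (hcore : Cfsg.pPrimeCore 2 G = ⊥) {N : Subgroup G} [N.Normal]
    (hN : N ≠ ⊥) (hmin : ∀ W : Subgroup G, W.Normal → W ≤ N → W = ⊥ ∨ W = N)
    (hab : ∀ x y : N, x * y = y * x) : IsPGroup 2 N := by
  haveI : Fact (Nat.Prime 2) := ⟨Nat.prime_two⟩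
  let W : Subgroup G :=
    { carrier := {x | x ∈ N ∧ ∃ k : ℕ, x ^ 2 ^ k = 1}
      one_mem' := ⟨one_mem _, 0, by simp⟩
      mul_mem' := fun {u v} hu hv => ⟨mul_mem hu.1 hv.1, by
        obtain ⟨k, hk⟩ := hu.2
        obtain ⟨l, hl⟩ := hv.2
        refine ⟨k + l, ?_⟩
        rw [Commute.mul_pow (congrArg Subtype.val (hab ⟨u, hu.1⟩ ⟨v, hv.1⟩)), pow_add,
          pow_mul, hk, one_pow, mul_comm, pow_mul, hl, one_pow, mul_one]⟩
      inv_mem' := fun {u} hu => ⟨inv_mem hu.1, by
        obtain ⟨k, hk⟩ := hu.2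
        exact ⟨k, by rw [inv_pow, hk, inv_one]⟩⟩ }
  have hWn : W.Normal := ⟨fun y hy g => ⟨Subgroup.Normal.conj_mem inferInstance y hy.1 g, by
    obtain ⟨k, hk⟩ := hy.2
    exact ⟨k, by rw [conj_pow, hk, mul_one, mul_inv_cancel]⟩⟩⟩
  rcases hmin W hWn (fun y hy => hy.1) with hW | hW
  · exfalso
    obtain ⟨u, hu⟩ := exists_prime_orderOf_dvd_card' 2 (two_dvd_of_ne_bot hcore hN)
    have hmem : (u : G) ∈ W := ⟨u.2, 1, by
      rw [pow_one, ← hu, ← Subgroup.orderOf_coe, pow_orderOf_eq_one]⟩
    rw [hW, Subgroup.mem_bot] at hmem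
    rw [← Subgroup.orderOf_coe, hmem, orderOf_one] at hu
    norm_num at hu
  · intro x
    obtain ⟨-, k, hk⟩ : (x : G) ∈ W := hW.symm ▸ x.2
    exact ⟨k, Subtype.ext hk⟩

/-- The bound on a minimal normal subgroup. -/
theorem card_minimal_le {a c : ℕ} (hcore : Cfsg.pPrimeCore 2 G = ⊥)
    (ha : (Nat.card G).factorization 2 ≤ a) {N : Subgroup G} [N.Normal] (hN : N ≠ ⊥)
    (hmin : ∀ W : Subgroup G, W.Normal → W ≤ N → W = ⊥ ∨ W = N) {t : G} (ht : t * t = 1)
    (hc : Nat.card ↥(Subgroup.centralizer ({t} : Set G)) ≤ c) :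
    Nat.card N ≤ c + 2 ^ a + ((2 * c ^ 2).factorial + 1) ^ a := by
  classical
  haveI : Fact (Nat.Prime 2) := ⟨Nat.prime_two⟩
  by_cases hNc : Nat.card N ≤ c
  · exact hNc.trans (Nat.le_add_right_of_le (Nat.le_add_right _ _))
  have hfN : (Nat.card N).factorization 2 ≤ a :=
    factorization_two_le_of_dvd Nat.card_pos.ne' (Subgroup.card_subgroup_dvd_card N) ha
  by_cases hab : ∀ x y : N, x * y = y * x
  · -- an abelian minimal normal subgroup is a 2-group
    have hpow := isTwoGroup_of_comm hcore hN hmin hab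
    obtain ⟨n, hn⟩ := IsPGroup.iff_card.mp (hpow : IsPGroup 2 N)
    rw [hn, Nat.prime_two.factorization_pow, Finsupp.single_eq_same] at hfN
    have := Nat.pow_le_pow_right (n := 2) (by norm_num) hfN
    omega
  obtain ⟨x, hx1, hx⟩ := exists_small_class ht hc (not_le.mp hNc)
  have hcen : Subgroup.center N = ⊥ := by
    haveI := Lib.Cores.normal_map_subtype N (Subgroup.center N)
    rcases hmin _ inferInstance (Subgroup.map_subtype_le (Subgroup.center N)) with h | h
    · exact (Subgroup.map_eq_bot_iff_of_injective _ N.subtype_injective).mp h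
    · refine absurd (fun u v => ?_) hab
      obtain ⟨u', hu', hu''⟩ : (u : G) ∈ (Subgroup.center N).map N.subtype := h.symm ▸ u.2
      obtain rfl : u' = u := Subtype.ext hu''
      exact (Subgroup.mem_center_iff.mp hu' v).symm
  -- a maximal normal subgroup of small index
  set K₀ := (Subgroup.centralizer ({x} : Set N)).normalCore with hK₀
  have hK₀top : K₀ ≠ ⊤ := by
    intro h
    apply hx1
    have hxc : x ∈ Subgroup.center N := Subgroup.mem_center_iff.mpr fun v => by
      have hv : v ∈ K₀ := h ▸ Subgroup.mem_top v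
      exact Subgroup.mem_centralizer_singleton_iff.mp (Subgroup.normalCore_le _ hv)
    rwa [hcen, Subgroup.mem_bot] at hxc
  obtain ⟨K', hK', hmax⟩ := Set.exists_max_image
    {K : Subgroup N | K.Normal ∧ K₀ ≤ K ∧ K ≠ ⊤} (fun K => Nat.card K) (Set.toFinite _)
    ⟨K₀, inferInstance, le_rfl, hK₀top⟩
  obtain ⟨hK'n, hK'le, hK'top⟩ := hK'
  set q := K'.index with hq
  have hqle : q ≤ (2 * c ^ 2).factorial :=
    (Nat.le_of_dvd (Nat.pos_of_ne_zero K₀.index_ne_zero_of_finite)
      (Subgroup.index_dvd_of_le hK'le)).trans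
      ((Lib.Subnormality.InvolutoryAut.index_normalCore_le _).trans (Nat.factorial_le hx))
  -- intersections of conjugates
  let cj : G → Subgroup N := fun g => K'.map (MulAut.conjNormal (H := N) g).toMonoidHom
  have hcjn : ∀ g, (cj g).Normal := fun g => hK'n.map _ (MulEquiv.surjective _)
  have hcjmax : ∀ (g : G) (W : Subgroup N), W.Normal → cj g ≤ W → W = cj g ∨ W = ⊤ := by
    intro g W hW hle
    by_contra hne
    push Not at hne
    let W' := W.comap (MulAut.conjNormal (H := N) g).toMonoidHom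
    have hK'W : K' ≤ W' := Subgroup.map_le_iff_le_comap.mp hle
    have hWn : W'.Normal := hW.comap _
    have hback : W'.map (MulAut.conjNormal (H := N) g).toMonoidHom = W :=
      Subgroup.map_comap_eq_self_of_surjective (MulEquiv.surjective _) W
    have hWtop : W' ≠ ⊤ := fun h => hne.2 (by
      rw [← hback, h, Subgroup.map_top_of_surjective _ (MulEquiv.surjective _)])
    have := Subgroup.eq_of_le_of_card_ge hK'W (hmax W' ⟨hWn, hK'le.trans hK'W, hWtop⟩)
    exact hne.1 (by rw [← hback, ← this])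
  have hcjidx : ∀ g, (cj g).index = q := fun g => by
    rw [hq]
    exact Subgroup.index_map_equiv K' (MulAut.conjNormal (H := N) g)
  have hS : ∀ S : Finset (Subgroup N), (∀ W ∈ S, ∃ g, W = cj g) →
      (S.inf id).Normal ∧ ∃ j : ℕ, (S.inf id).index = q ^ j := by
    intro S
    induction S using Finset.induction_on with
    | empty => exact fun _ => ⟨by rw [Finset.inf_empty]; infer_instance, 0, by simp⟩
    | insert W S hWS ih =>
      intro h
      obtain ⟨hJn, j, hj⟩ := ih fun V hV => h V (Finset.mem_insert_of_mem hV)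
      obtain ⟨g, rfl⟩ := h W (Finset.mem_insert_self _ _)
      haveI := hcjn g
      haveI := hJn
      rw [Finset.inf_insert, id]
      refine ⟨inferInstance, ?_⟩
      rcases hcjmax g (cj g ⊔ S.inf id) inferInstance le_sup_left with h' | h'
      · refine ⟨j, ?_⟩
        rw [inf_eq_right.mpr (sup_eq_left.mp h'), hj]
      · refine ⟨j + 1, ?_⟩
        rw [pow_succ', ← hj, ← hcjidx g, ← Subgroup.relIndex_mul_index
          (inf_le_right : cj g ⊓ S.inf id ≤ S.inf id), Subgroup.inf_relIndex_right]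
        congr 1
        rw [← Subgroup.relIndex_sup_right, sup_comm, h', Subgroup.relIndex_top_right]
  set S := (Set.toFinite (Set.range cj)).toFinset with hSdef
  obtain ⟨hJn, j, hj⟩ := hS S fun W hW => by
    obtain ⟨g, rfl⟩ := (Set.Finite.mem_toFinset _).mp hW
    exact ⟨g, rfl⟩
  have hJ : S.inf id = ⊥ := by
    set J := S.inf id with hJdef
    have hJle : ∀ g, J ≤ cj g := fun g => by
      have := Finset.inf_le (f := id) ((Set.Finite.mem_toFinset (Set.toFinite (Set.range cj))).mpr
        ⟨g, rfl⟩)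
      exact this
    have hnormal : (J.map N.subtype).Normal := by
      refine ⟨fun y hy g => ?_⟩
      obtain ⟨z, hz, rfl⟩ := hy
      refine ⟨MulAut.conjNormal g z, ?_, by simp⟩
      rw [hJdef, SetLike.mem_coe]
      have : ∀ W ∈ S, MulAut.conjNormal (H := N) g z ∈ W := by
        intro W hW
        obtain ⟨h, rfl⟩ := (Set.Finite.mem_toFinset _).mp hW
        obtain ⟨w, hw, hwz⟩ := hJle (g⁻¹ * h) hz
        refine ⟨w, hw, ?_⟩
        rw [← hwz]
        apply Subtype.ext
        simp [mul_assoc]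
      have hle : Subgroup.zpowers (MulAut.conjNormal (H := N) g z) ≤ S.inf id :=
        Finset.le_inf fun W hW => Subgroup.zpowers_le.mpr (this W hW)
      exact hle (Subgroup.mem_zpowers _)
    rcases hmin _ hnormal (Subgroup.map_subtype_le J) with h | h
    · exact (Subgroup.map_eq_bot_iff_of_injective _ N.subtype_injective).mp h
    · exfalso
      apply hK'top
      have hJtop : J = ⊤ := by
        refine Subgroup.map_injective N.subtype_injective ?_
        rw [h, ← MonoidHom.range_eq_map, Subgroup.range_subtype]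
      have h1 : cj 1 = ⊤ := top_le_iff.mp (hJtop ▸ hJle 1)
      have := hcjidx 1
      rw [h1, Subgroup.index_top] at this
      exact Subgroup.index_eq_one.mp this.symm
  rw [hJ, Subgroup.index_bot] at hj
  have h2q : 2 ∣ q := by
    have h2 := two_dvd_of_ne_bot hcore hN
    rw [hj] at h2
    exact Nat.prime_two.dvd_of_dvd_pow h2
  have hja : j ≤ a := by
    have h : 2 ^ j ∣ Nat.card N := hj ▸ pow_dvd_pow_of_dvd h2q j
    exact ((Nat.prime_two.pow_dvd_iff_le_factorization Nat.card_pos.ne').mp h).trans hfN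
  rw [hj]
  exact ((Nat.pow_le_pow_left (Nat.le_succ_of_le hqle) j).trans
    (Nat.pow_le_pow_right (Nat.succ_pos _) hja)).trans (Nat.le_add_left _ _)

/-- The group order is bounded by the 2-part and one involution centralizer. -/
theorem exists_card_le (a : ℕ) : ∀ C : ℕ, ∃ B : ℕ, ∀ (G : Type u) [Group G] [Finite G],
    (Nat.card G).factorization 2 ≤ a → Cfsg.pPrimeCore 2 G = ⊥ → ∀ t : G, orderOf t = 2 →
      Nat.card ↥(Subgroup.centralizer ({t} : Set G)) ≤ C → Nat.card G ≤ B := by
  induction a with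
  | zero =>
    intro C
    refine ⟨0, fun G _ _ ha _ t ht _ => absurd ha ?_⟩
    have h2 : 2 ∣ Nat.card G := ht ▸ orderOf_dvd_natCard t
    have := Nat.prime_two.factorization_pos_of_dvd Nat.card_pos.ne' h2
    omega
  | succ a ih =>
    intro C
    set BN := C + 2 ^ (a + 1) + ((2 * C ^ 2).factorial + 1) ^ (a + 1)
    set BR := BN.factorial * BN
    obtain ⟨B, hB⟩ := ih (C * BR)
    refine ⟨C * BR + BR * B, fun G _ _ ha hcore t ht hC => ?_⟩
    classical
    haveI : Fact (Nat.Prime 2) := ⟨Nat.prime_two⟩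
    haveI : Nontrivial G := ⟨⟨t, 1, fun h => by rw [h, orderOf_one] at ht; norm_num at ht⟩⟩
    obtain ⟨N, hNn, hNne, hNmin'⟩ := Lib.Subnormality.UniqueMaximal.exists_minimal_normal (G := G)
    have hNmin : ∀ W : Subgroup G, W.Normal → W ≤ N → W = ⊥ ∨ W = N := fun W hW hle => by
      rcases eq_or_ne W ⊥ with h | h
      · exact Or.inl h
      · exact Or.inr (hNmin' W hW hle h)
    haveI := hNn
    have htt : t * t = 1 := by rw [← pow_two, ← ht, pow_orderOf_eq_one]
    have hNcard : Nat.card N ≤ BN := card_minimal_le hcore ha hNne hNmin htt hC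
    have h2N := two_dvd_of_ne_bot hcore hNne
    set π := QuotientGroup.mk' N
    set R := (Cfsg.pPrimeCore 2 (G ⧸ N)).comap π with hRdef
    haveI : (Cfsg.pPrimeCore 2 (G ⧸ N)).Normal := Cfsg.pPrimeCore_normal 2 _
    haveI hRn : R.Normal := Subgroup.Normal.comap inferInstance _
    have hNR : N ≤ R := fun v hv => by
      rw [hRdef, Subgroup.mem_comap, show π v = 1 from (QuotientGroup.eq_one_iff v).mpr hv]
      exact one_mem _
    -- the centralizer of `N` in `R` lies in `N`
    set W := R ⊓ Subgroup.centralizer (N : Set G) with hW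
    have hWN : W ≤ N := by
      have hodd : ¬ 2 ∣ (N.subgroupOf W).index := by
        intro hd
        apply Lib.Cores.not_dvd_card_pPrimeCore (G := G ⧸ N) 2
        refine hd.trans ?_
        have h1 : (π.comp W.subtype).ker = N.subgroupOf W := by
          ext v
          simp [π, Subgroup.mem_subgroupOf]
        rw [← h1, Subgroup.index_ker]
        refine Subgroup.card_dvd_of_le ?_
        rintro _ ⟨v, rfl⟩
        exact (Subgroup.mem_inf.mp v.2).1
      have hcen : N.subgroupOf W ≤ Subgroup.center W := fun v hv =>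
        Subgroup.mem_center_iff.mpr fun w => Subtype.ext
          ((Subgroup.mem_inf.mp w.2).2 (v : G) hv).symm
      haveI hWn : W.Normal := inferInstance
      -- the intersection with `N` is trivial or everything
      have hWbot : W = ⊥ → W ≤ N := fun h => h ▸ bot_le
      rcases hNmin (W ⊓ N) inferInstance inf_le_right with hZ | hZ
      · refine hWbot (by_contra fun hne => hodd ?_)
        have h2 : N.subgroupOf W = ⊥ := by
          rw [eq_bot_iff]
          intro v hv
          have : (v : G) ∈ W ⊓ N := ⟨v.2, hv⟩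
          rw [hZ, Subgroup.mem_bot] at this
          exact Subgroup.mem_bot.mpr (Subtype.ext this)
        rw [h2, Subgroup.index_bot]
        exact two_dvd_of_ne_bot hcore hne
      · have hNW : N ≤ W := hZ ▸ inf_le_left
        obtain ⟨n, hn⟩ := IsPGroup.iff_card.mp (isTwoGroup_of_comm hcore hNne hNmin
          fun u v => Subtype.ext ((Subgroup.mem_inf.mp (hNW v.2)).2 (u : G) u.2))
        set i := (N.subgroupOf W).index with hi
        have hcard : Nat.card (N.subgroupOf W) = 2 ^ n := by
          rw [Nat.card_congr (Subgroup.subgroupOfEquivOfLe hNW).toEquiv, hn]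
        have hcop : (2 ^ n).Coprime i :=
          Nat.Coprime.pow_left _ (Nat.prime_two.coprime_iff_not_dvd.mpr hodd)
        obtain ⟨Q, hQ⟩ := Subgroup.exists_right_complement'_of_coprime
          (N := N.subgroupOf W) (hcard ▸ hcop)
        have hQi : Nat.card Q = i := by
          have h1 := hQ.card_mul
          rw [← (N.subgroupOf W).card_mul_index] at h1
          exact Nat.eq_of_mul_eq_mul_left Nat.card_pos h1
        have hQn : (Q.map W.subtype).Normal := by
          refine ⟨fun y hy g => ?_⟩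
          obtain ⟨q, hq, rfl⟩ := hy
          obtain ⟨⟨z, q'⟩, hzq⟩ := hQ.2 ⟨g * (q : G) * g⁻¹, hWn.conj_mem _ q.2 g⟩
          have hpow : ∀ q : W, q ∈ Q → q ^ i = 1 := fun q hq => by
            rw [← hQi]
            exact congrArg Subtype.val (pow_card_eq_one' (x := (⟨q, hq⟩ : Q)))
          have hzi : (z : W) ^ i = 1 := by
            have hc : Commute (z : W) (q' : W) :=
              (Subgroup.mem_center_iff.mp (hcen z.2) q').symm
            have h1 : ((z : W) * (q' : W)) ^ i = 1 := by
              rw [show (z : W) * (q' : W) = _ from hzq]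
              apply Subtype.ext
              rw [Subgroup.coe_pow, conj_pow, ← Subgroup.coe_pow, hpow q hq]
              simp
            rwa [hc.mul_pow, hpow _ q'.2, mul_one] at h1
          have hz1 : (z : W) = 1 := by
            rw [← orderOf_eq_one_iff]
            refine Nat.eq_one_of_dvd_coprimes hcop ?_ (orderOf_dvd_of_pow_eq_one hzi)
            rw [← hcard]
            exact Subgroup.orderOf_dvd_natCard _ z.2
          refine ⟨q', q'.2, ?_⟩
          have h2 : (z : W) * (q' : W) = _ := hzq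
          rw [hz1, one_mul] at h2
          exact congrArg Subtype.val h2
        have hQbot : Q.map W.subtype = ⊥ := by
          haveI := hQn
          by_contra hne
          have := two_dvd_of_ne_bot hcore hne
          rw [Subgroup.card_map_of_injective W.subtype_injective, hQi] at this
          exact hodd this
        rw [Subgroup.map_eq_bot_iff_of_injective _ W.subtype_injective] at hQbot
        rw [hQbot, Subgroup.card_bot] at hQi
        exact Subgroup.subgroupOf_eq_top.mp (Subgroup.index_eq_one.mp hQi.symm)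
    have hRcard : Nat.card R ≤ BR := by
      let φ : R → Equiv.Perm N := fun r => (MulAut.conjNormal (H := N) (r : G)).toEquiv
      haveI := Fintype.ofFinite (Equiv.Perm N)
      rw [← Nat.card_congr (Equiv.sigmaFiberEquiv φ), Nat.card_sigma]
      refine (Finset.sum_le_card_nsmul _ _ BN fun σ _ => ?_).trans ?_
      · rcases isEmpty_or_nonempty {r : R // φ r = σ} with he | ⟨⟨r₀, hr₀⟩⟩
        · simp
        refine le_trans (Nat.card_le_card_of_injective (fun r =>
          (⟨(r₀ : G)⁻¹ * ((r.1 : R) : G), hWN ⟨R.mul_mem (R.inv_mem r₀.2) r.1.2, ?_⟩⟩ : N))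
          fun u v h => Subtype.ext (Subtype.ext (mul_left_cancel (congrArg Subtype.val h)))) hNcard
        intro y hy
        have h := congrArg Subtype.val (DFunLike.congr_fun (r.2.trans hr₀.symm) ⟨y, hy⟩)
        change ((r.1 : R) : G) * y * ((r.1 : R) : G)⁻¹ = (r₀ : G) * y * (r₀ : G)⁻¹ at h
        calc y * ((r₀ : G)⁻¹ * ((r.1 : R) : G))
            = (r₀ : G)⁻¹ * ((r₀ : G) * y * (r₀ : G)⁻¹) * ((r.1 : R) : G) := by group
          _ = _ := by rw [← h]; group
      · rw [smul_eq_mul, Finset.card_univ, ← Nat.card_eq_fintype_card, Nat.card_perm]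
        exact Nat.mul_le_mul_right _ (Nat.factorial_le hNcard)
    haveI := hRn
    -- elements commuting with `t` modulo `R`
    have hX : Nat.card {g : G // g * t * g⁻¹ * t⁻¹ ∈ R} ≤ C * BR := by
      let g' : {g : G // g * t * g⁻¹ * t⁻¹ ∈ R} → R := fun g => ⟨_, g.2⟩
      haveI := Fintype.ofFinite R
      rw [← Nat.card_congr (Equiv.sigmaFiberEquiv g'), Nat.card_sigma, mul_comm]
      refine (Finset.sum_le_card_nsmul _ _ C fun σ _ => ?_).trans ?_
      · rcases isEmpty_or_nonempty {g // g' g = σ} with he | ⟨⟨g₀, hg₀⟩⟩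
        · simp
        refine le_trans (Nat.card_le_card_of_injective (fun g =>
          (⟨(g₀ : G)⁻¹ * ((g.1 : {g : G // g * t * g⁻¹ * t⁻¹ ∈ R}) : G), ?_⟩ :
            Subgroup.centralizer ({t} : Set G)))
          fun u v h => Subtype.ext (Subtype.ext (mul_left_cancel (congrArg Subtype.val h)))) hC
        have h := mul_right_cancel (congrArg Subtype.val (g.2.trans hg₀.symm))
        rw [Subgroup.mem_centralizer_singleton_iff]
        generalize ((g.1 : {g : G // g * t * g⁻¹ * t⁻¹ ∈ R}) : G) = u at h ⊢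
        calc (g₀ : G)⁻¹ * u * t = (g₀ : G)⁻¹ * (u * t * u⁻¹) * u := by group
          _ = _ := by rw [h]; group
      · rw [smul_eq_mul, Finset.card_univ, ← Nat.card_eq_fintype_card]
        exact Nat.mul_le_mul_right _ hRcard
    by_cases htR : t ∈ R
    · refine le_trans (le_trans ?_ hX) le_self_add
      refine Nat.card_le_card_of_injective (fun g => ⟨g, ?_⟩) fun u v h => congrArg Subtype.val h
      exact R.mul_mem (hRn.conj_mem t htR g) (R.inv_mem htR)
    set ρ := QuotientGroup.mk' R
    have hQt : orderOf (ρ t) = 2 := by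
      refine orderOf_eq_prime ?_ fun h => htR ((QuotientGroup.eq_one_iff t).mp h)
      rw [← map_pow, ← ht, pow_orderOf_eq_one, map_one]
    have hcoreQ : Cfsg.pPrimeCore 2 (G ⧸ R) = ⊥ := by
      set Z := Cfsg.pPrimeCore 2 (G ⧸ R)
      haveI : Z.Normal := Cfsg.pPrimeCore_normal 2 _
      set Y := (Z.comap ρ).map π
      haveI : Y.Normal := Subgroup.Normal.map inferInstance _ (QuotientGroup.mk'_surjective N)
      have hRZ : R ≤ Z.comap ρ := fun v hv => by
        show ρ v ∈ Z
        rw [show ρ v = 1 from (QuotientGroup.eq_one_iff v).mpr hv]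
        exact one_mem _
      have hYodd : ¬ 2 ∣ Nat.card Y := by
        intro hd
        obtain ⟨y, hy⟩ := exists_prime_orderOf_dvd_card' 2 hd
        obtain ⟨v, hv, hvy⟩ := y.2
        -- the image in `G ⧸ R` has odd order
        have h1 : ¬ 2 ∣ orderOf (ρ v) := fun h => Lib.Cores.not_dvd_card_pPrimeCore (G := G ⧸ R) 2
          (h.trans (Subgroup.orderOf_dvd_natCard _ hv))
        have h2 : (ρ v) ^ 2 = 1 := by
          rw [← map_pow]
          refine (QuotientGroup.eq_one_iff (v ^ 2)).mpr ?_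
          refine hNR ((QuotientGroup.eq_one_iff _).mp ?_)
          show π (v ^ 2) = 1
          rw [map_pow, show π v = (y : G ⧸ N) from hvy, ← Subgroup.coe_pow, ← hy,
            pow_orderOf_eq_one, Subgroup.coe_one]
        have h3 : ρ v = 1 := by
          rw [← orderOf_eq_one_iff]
          rcases (Nat.dvd_prime Nat.prime_two).mp (orderOf_dvd_of_pow_eq_one h2) with h | h
          · exact h
          · exact absurd (h ▸ dvd_rfl) h1
        have hvR : π v ∈ Cfsg.pPrimeCore 2 (G ⧸ N) := (QuotientGroup.eq_one_iff v).mp h3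
        refine Lib.Cores.not_dvd_card_pPrimeCore (G := G ⧸ N) 2 ?_
        refine Dvd.dvd.trans ?_ (Subgroup.orderOf_dvd_natCard _ hvR)
        rw [show π v = (y : G ⧸ N) from hvy, Subgroup.orderOf_coe, hy]
      have hle : Z.comap ρ ≤ R := fun v hv =>
        Lib.Cores.le_pPrimeCore_of_not_dvd hYodd ⟨v, hv, rfl⟩
      rw [eq_bot_iff]
      intro z hz
      obtain ⟨v, rfl⟩ := QuotientGroup.mk'_surjective R z
      exact (QuotientGroup.eq_one_iff v).mpr (hle hz)
    have hfact : (Nat.card (G ⧸ R)).factorization 2 ≤ a := by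
      have h2R : 2 ∣ Nat.card R := h2N.trans (Subgroup.card_dvd_of_le hNR)
      have h := Nat.prime_two.factorization_pos_of_dvd Nat.card_pos.ne' h2R
      rw [Subgroup.card_eq_card_quotient_mul_card_subgroup R,
        Nat.factorization_mul Nat.card_pos.ne' Nat.card_pos.ne', Finsupp.add_apply] at ha
      omega
    have hQC : Nat.card ↥(Subgroup.centralizer ({ρ t} : Set (G ⧸ R))) ≤ C * BR := by
      refine le_trans (Nat.card_le_card_of_surjective (fun g => ⟨ρ g.1, ?_⟩) ?_) hX
      · rw [Subgroup.mem_centralizer_singleton_iff]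
        have h : ρ (g.1 * t * g.1⁻¹ * t⁻¹) = 1 := (QuotientGroup.eq_one_iff _).mpr g.2
        rw [map_mul, map_mul, map_mul, map_inv, map_inv, mul_inv_eq_one, mul_inv_eq_iff_eq_mul] at h
        exact h
      · rintro ⟨z, hz⟩
        obtain ⟨v, rfl⟩ := QuotientGroup.mk'_surjective R z
        refine ⟨⟨v, (QuotientGroup.eq_one_iff _).mp ?_⟩, rfl⟩
        show ρ (v * t * v⁻¹ * t⁻¹) = 1
        rw [map_mul, map_mul, map_mul, map_inv, map_inv, mul_inv_eq_one, mul_inv_eq_iff_eq_mul]
        exact Subgroup.mem_centralizer_singleton_iff.mp hz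
    have hQ := hB (G ⧸ R) hfact hcoreQ (ρ t) hQt hQC
    rw [Subgroup.card_eq_card_quotient_mul_card_subgroup R, mul_comm]
    exact le_trans (Nat.mul_le_mul hRcard hQ) le_add_self

end Cfsg.Agent.Lib.H80.BrauerFowler
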