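import Cfsg.Agent.Lib.Characters.Complete
import Mathlib.GroupTheory.ClassEquation
import Mathlib.Algebra.Order.Floor.Semiring

/-!
# Landau: the number of classes bounds the order
-/

namespace Cfsg.Agent.Lib.H80.Landau

universe u

/-- Egyptian fractions with a bounded number of terms and fixed sum have bounded denominators. -/
theorem exists_bound : ∀ (r : ℕ) (q : ℚ), ∃ N : ℕ, ∀ s : Multiset ℕ, Multiset.card s ≤ r →
    (∀ c ∈ s, 0 < c) → (s.map fun c : ℕ => (c : ℚ)⁻¹).sum = q → ∀ c ∈ s, c ≤ N := by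
  intro r
  induction r with
  | zero =>
    intro q
    refine ⟨0, fun s hs _ _ c hc => ?_⟩
    rw [Multiset.card_eq_zero.mp (Nat.le_zero.mp hs)] at hc
    simp at hc
  | succ r ih =>
    intro q
    choose N hN using fun c : ℕ => ih (q - (c : ℚ)⁻¹)
    refine ⟨⌊((r : ℚ) + 1) / q⌋₊ +
      (Finset.range (⌊((r : ℚ) + 1) / q⌋₊ + 1)).sum N, fun s hs hpos hsum c hc => ?_⟩
    obtain ⟨c₀, hc₀, hmin⟩ := Finset.exists_min_image s.toFinset id
      ⟨c, Multiset.mem_toFinset.mpr hc⟩
    rw [Multiset.mem_toFinset] at hc₀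
    have hc₀pos : (0 : ℚ) < c₀ := by exact_mod_cast hpos c₀ hc₀
    have hsplit : s = c₀ ::ₘ s.erase c₀ := (Multiset.cons_erase hc₀).symm
    have hrest : 0 ≤ ((s.erase c₀).map fun c : ℕ => (c : ℚ)⁻¹).sum :=
      Multiset.sum_nonneg fun x hx => by
        obtain ⟨a, -, rfl⟩ := Multiset.mem_map.mp hx
        positivity
    have hq : (c₀ : ℚ)⁻¹ + ((s.erase c₀).map fun c : ℕ => (c : ℚ)⁻¹).sum = q := by
      conv_rhs => rw [← hsum, hsplit]
      simp
    have hqpos : 0 < q := by
      have := inv_pos.mpr hc₀pos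
      linarith
    have hle : q ≤ ((r : ℚ) + 1) * (c₀ : ℚ)⁻¹ := by
      rw [← hsum]
      refine (Multiset.sum_le_card_nsmul _ ((c₀ : ℚ)⁻¹) fun x hx => ?_).trans ?_
      · obtain ⟨a, ha, rfl⟩ := Multiset.mem_map.mp hx
        exact inv_anti₀ hc₀pos (by exact_mod_cast hmin a (Multiset.mem_toFinset.mpr ha))
      · rw [Multiset.card_map, nsmul_eq_mul]
        refine mul_le_mul_of_nonneg_right ?_ (by positivity)
        exact_mod_cast hs
    have hL : c₀ ≤ ⌊((r : ℚ) + 1) / q⌋₊ := by
      refine Nat.le_floor ?_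
      rw [le_div_iff₀ hqpos]
      calc (c₀ : ℚ) * q ≤ (c₀ : ℚ) * (((r : ℚ) + 1) * (c₀ : ℚ)⁻¹) := by gcongr
        _ = (r : ℚ) + 1 := by field_simp
    by_cases hcc : c = c₀
    · subst hcc
      exact le_add_right hL
    · have h1 : c ≤ N c₀ := hN c₀ (s.erase c₀)
        (by rw [Multiset.card_erase_of_mem hc₀]; exact Nat.pred_le_iff.mpr hs)
        (fun a ha => hpos a (Multiset.mem_of_mem_erase ha)) (by linarith) c
        ((Multiset.mem_erase_of_ne hcc).mpr hc)
      exact h1.trans (le_add_left (Finset.single_le_sum (f := N) (fun _ _ => Nat.zero_le _)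
        (Finset.mem_range.mpr (by omega))))

/-- Landau's theorem. -/
theorem exists_card_le (r : ℕ) : ∃ N : ℕ, ∀ (G : Type u) [Group G] [Finite G],
    Nat.card (ConjClasses G) ≤ r → Nat.card G ≤ N := by
  obtain ⟨N, hN⟩ := exists_bound r 1
  refine ⟨N, fun G _ _ hk => ?_⟩
  classical
  letI := Fintype.ofFinite G
  letI := Fintype.ofFinite (ConjClasses G)
  set f : ConjClasses G → ℕ := fun c =>
    Nat.card (Subgroup.centralizer ({c.out} : Set G)) with hf
  have hclass : ∀ c : ConjClasses G, c.carrier.ncard * f c = Nat.card G := by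
    intro c
    rw [← Cfsg.Agent.Lib.Characters.Complete.card_conjugates_mul_centralizer c.out]
    congr 1
    rw [← Nat.card_coe_set_eq]
    refine Nat.card_congr (Equiv.subtypeEquivRight fun x => ?_)
    rw [ConjClasses.mem_carrier_iff_mk_eq]
    conv_lhs => rw [← Quotient.out_eq c]
    exact ConjClasses.mk_eq_mk_iff_isConj.trans isConj_comm
  have h := hN ((Finset.univ : Finset (ConjClasses G)).val.map f)
    (by simpa [Nat.card_eq_fintype_card] using hk)
    (fun c hc => by
      obtain ⟨x, -, rfl⟩ := Multiset.mem_map.mp hc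
      exact Nat.card_pos)
    (by
      rw [Multiset.map_map]
      change ∑ c : ConjClasses G, ((f c : ℚ))⁻¹ = 1
      have hG : (Nat.card G : ℚ) ≠ 0 := Nat.cast_ne_zero.mpr Nat.card_pos.ne'
      refine mul_left_cancel₀ hG ?_
      rw [Finset.mul_sum, mul_one]
      have := Group.sum_card_conj_classes_eq_card (G := G)
      rw [finsum_eq_sum_of_fintype] at this
      conv_rhs => rw [← this]
      push_cast
      refine Finset.sum_congr rfl fun c _ => ?_
      have hpos : (f c : ℚ) ≠ 0 := Nat.cast_ne_zero.mpr Nat.card_pos.ne'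
      rw [← hclass c]
      push_cast
      field_simp)
    (f (ConjClasses.mk 1)) (Multiset.mem_map.mpr ⟨_, Finset.mem_univ _, rfl⟩)
  refine le_trans (le_of_eq ?_) h
  have h1 : (ConjClasses.mk (1 : G)).out = 1 := by
    have := Quotient.out_eq (ConjClasses.mk (1 : G))
    exact isConj_one_left.mp (ConjClasses.mk_eq_mk_iff_isConj.mp this)
  simp only [hf, h1]
  rw [show Subgroup.centralizer ({(1 : G)} : Set G) = ⊤ from eq_top_iff.mpr fun g _ =>
    Subgroup.mem_centralizer_singleton_iff.mpr (by simp), Subgroup.card_top]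

end Cfsg.Agent.Lib.H80.Landau
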